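import Groth.Agent.DRingKP.Derive
import Groth.Agent.TraceDer.Basic
import Groth.Prelude.Def_DDual2
import Mathlib.Algebra.Homology.ShortComplex.ModuleCat
import Mathlib.LinearAlgebra.TensorProduct.RightExactness
import Mathlib.LinearAlgebra.TensorProduct.Quotient
import Mathlib.Algebra.Homology.Embedding.CochainComplex

/-!
# Vanishing of `K ⊗^L N` in positive degrees by dévissage along `I`
-/

set_option autoImplicit false
set_option backward.isDefEq.respectTransparency false

universe u

open CategoryTheory Limits MonoidalCategory TensorProduct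

attribute [local instance] HasDerivedCategory.standard

namespace Groth.Agent.LTenDev

variable {R : Type u} [CommRing R]

theorem projective_colimit (Kc : ℕ ⥤ ModuleCat.{u} R) [∀ n, Projective (Kc.obj n)]
    (hr : ∀ n, ∃ r : Kc.obj (n + 1) ⟶ Kc.obj n, Kc.map (homOfLE (Nat.le_succ n)) ≫ r = 𝟙 _)
    (c : Cocone Kc) (hc : IsColimit c) : Projective c.pt := by
  refine ⟨fun {E F} g p _ => ?_⟩
  choose r hr using hr
  choose l hl using fun n => (inferInstance : Projective (Kc.obj n)).factors (c.ι.app n ≫ g) p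
  let S : ∀ n, {t : Kc.obj n ⟶ E // t ≫ p = c.ι.app n ≫ g} := fun n => Nat.rec ⟨l 0, hl 0⟩
    (fun n t => ⟨r n ≫ t.1 + (𝟙 _ - r n ≫ Kc.map (homOfLE (Nat.le_succ n))) ≫ l (n + 1), by
      rw [Preadditive.add_comp, Category.assoc, t.2, Category.assoc, hl (n + 1), Preadditive.sub_comp,
        Category.id_comp, Category.assoc, ← Category.assoc (Kc.map _), c.w]
      abel⟩) n
  have hS : ∀ n, Kc.map (homOfLE (Nat.le_succ n)) ≫ (S (n + 1)).1 = (S n).1 := fun n => by
    show Kc.map _ ≫ (r n ≫ (S n).1 + (𝟙 _ - r n ≫ Kc.map (homOfLE (Nat.le_succ n))) ≫ l (n + 1)) = _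
    rw [Preadditive.comp_add, ← Category.assoc, hr, Category.id_comp, ← Category.assoc, Preadditive.comp_sub,
      Category.comp_id, ← Category.assoc, hr, Category.id_comp, sub_self, zero_comp, add_zero]
  let d : Cocone Kc :=
    { pt := E
      ι := NatTrans.ofSequence (fun n => (S n).1) fun n => by
        simpa using hS n }
  refine ⟨hc.desc d, hc.hom_ext fun n => ?_⟩
  rw [hc.fac_assoc]
  exact (S n).2

theorem exists_resolution (G : DRing.Cx R) :
    ∃ (P : DRing.Cx R) (c : P ⟶ G), P.IsKProjective ∧ QuasiIso c ∧ ∀ i, Projective (P.X i) := by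
  obtain ⟨Kc, π, -, -, hb, hs, hr, c, -, hc⟩ := KFlat.exists_trunc_system G (DRingKP.exists_cover R)
  haveI : ∀ n, (Kc.obj n).IsKProjective := fun n => by
    obtain ⟨b, hb⟩ := hb n
    haveI := fun i => DRingKP.projective_of_isSum (hs n i)
    exact CochainComplex.isKProjective_of_projective _ b
  refine ⟨colimit Kc, c, DRingKP.isKProjective_colimit Kc fun n i => ⟨(hr n i).choose, (hr n i).choose_spec.1⟩,
    hc, fun i => ?_⟩
  haveI : ∀ n, Projective ((Kc ⋙ HomologicalComplex.eval _ _ i).obj n) := fun n =>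
    DRingKP.projective_of_isSum (hs n i)
  exact projective_colimit (Kc ⋙ HomologicalComplex.eval _ _ i)
    (fun n => ⟨(hr n i).choose, (hr n i).choose_spec.1⟩) _
    (isColimitOfPreserves (HomologicalComplex.eval _ _ i) (colimit.isColimit Kc))

/-- `K ⊗^L M` is computed by `P ⊗ M` for K-projective `P`. -/
theorem nonempty_lTensorIso (M : ModuleCat.{u} R) [DRing.HasLTensor R M] (P : DRing.Cx R) [P.IsKProjective] :
    Nonempty ((DRing.LTensor R M).obj (DRing.toD P) ≅ DRing.toD (DRing.tensorCx P M)) := by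
  haveI := DRingKP.isIso_app (tensorRight M) (DRing.LTensor R M)
    ((DRing.tensorKh R M).totalLeftDerivedCounit DerivedCategory.Qh
      (HomotopyCategory.quasiIso (ModuleCat.{u} R) (ComplexShape.up ℤ))) P
  exact ⟨(DRing.LTensor R M).mapIso ((DerivedCategory.quotientCompQhIso _).symm.app P) ≪≫
    asIso (((DRing.tensorKh R M).totalLeftDerivedCounit DerivedCategory.Qh
      (HomotopyCategory.quasiIso (ModuleCat.{u} R) (ComplexShape.up ℤ))).app
        ((HomotopyCategory.quotient _ _).obj P)) ≪≫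
    (DerivedCategory.quotientCompQhIso _).app (DRing.tensorCx P M)⟩

theorem subsingleton_HD_iff (L : DRing.Cx R) (i : ℤ) :
    Subsingleton (Dual.HD R (DRing.toD L) i) ↔ L.ExactAt i := by
  rw [HomologicalComplex.exactAt_iff_isZero_homology]
  let e := (DerivedCategory.homologyFunctorFactors (ModuleCat.{u} R) i).app L
  exact ⟨fun h => (haveI := h; ModuleCat.isZero_of_subsingleton _ : IsZero ((DerivedCategory.homologyFunctor _ i).obj (DRing.toD L))).of_iso e.symm,
    fun h => ModuleCat.subsingleton_of_isZero (h.of_iso e)⟩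

variable (I : Ideal R)

theorem mem_smul_top_of_tmul_eq_zero {M : Type u} [AddCommGroup M] [Module R M] (x : M)
    (hx : x ⊗ₜ[R] (Ideal.Quotient.mk I (1 : R)) = 0) : x ∈ I • (⊤ : Submodule R M) := by
  have h1 := congrArg (TensorProduct.tensorQuotEquivQuotSMul M I) hx
  rw [map_zero, TensorProduct.tensorQuotEquivQuotSMul_tmul_mk, one_smul] at h1
  exact (Submodule.Quotient.mk_eq_zero _).1 h1

theorem exists_homotopy_step (P : DRing.Cx R) [P.IsKProjective] [∀ i, Projective (P.X i)]
    (hQ : ∀ i : ℤ, 0 < i → (DRing.tensorCx P (ModuleCat.of R (R ⧸ I))).ExactAt i) (i : ℤ) (hi : 0 < i) :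
    ∃ (a : P.X i ⟶ P.X (i - 1)) (b : P.X (i + 1) ⟶ P.X i), ∀ x : P.X i,
      x - (P.d i (i + 1) ≫ b + a ≫ P.d (i - 1) i).hom x ∈ I • (⊤ : Submodule R (P.X i)) := by
  let M := ModuleCat.of R (R ⧸ I)
  let Qc := DRing.tensorCx P M
  let f : ∀ j, P.X j ⟶ Qc.X j := fun j =>
    ModuleCat.ofHom ((TensorProduct.mk R (P.X j) (R ⧸ I)).flip (Ideal.Quotient.mk I (1 : R)))
  let q : P ⟶ Qc :=
    { f := f
      comm' := fun j k _ => ModuleCat.hom_ext (LinearMap.ext fun x => rfl) }
  haveI : QuasiIso (CochainComplex.ιTruncLE Qc 0) := by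
    rw [CochainComplex.quasiIso_ιTruncLE_iff, CochainComplex.isLE_iff]
    exact hQ
  let ι := CochainComplex.ιTruncLE Qc 0
  obtain ⟨s, hs⟩ := PerfLocal.exists_lift (E := P) (F := Qc.truncLE 0)
    (DerivedCategory.Q.map q ≫ inv (DerivedCategory.Q.map ι))
  obtain ⟨h⟩ := TraceDer.nonempty_homotopy (f := q) (g := s ≫ ι)
    (by rw [Functor.map_comp, hs, Category.assoc, IsIso.inv_hom_id, Category.comp_id])
  have hsi : (s ≫ ι).f i = 0 := by
    rw [HomologicalComplex.comp_f,
      (CochainComplex.isZero_of_isStrictlyLE (Qc.truncLE 0) 0 i hi).eq_of_tgt (s.f i) 0, zero_comp]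
  have hepi : ∀ j, Epi (f j) := fun j => (ModuleCat.epi_iff_surjective _).2 fun z => by
    change (↑(P.X j)) ⊗[R] (R ⧸ I) at z
    induction z using TensorProduct.induction_on with
    | zero => exact ⟨0, map_zero _⟩
    | tmul x y =>
      obtain ⟨r, rfl⟩ := Ideal.Quotient.mk_surjective y
      refine ⟨r • x, ?_⟩
      show (r • x) ⊗ₜ[R] (Ideal.Quotient.mk I (1 : R)) = x ⊗ₜ[R] Ideal.Quotient.mk I r
      rw [TensorProduct.smul_tmul, ← mul_one r, map_mul, Algebra.smul_def]
      simp
    | add x y hx hy =>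
      obtain ⟨x', rfl⟩ := hx
      obtain ⟨y', rfl⟩ := hy
      exact ⟨x' + y', map_add _ _ _⟩
  haveI := hepi
  obtain ⟨a, ha⟩ := (inferInstance : Projective (P.X i)).factors (h.hom i (i - 1)) (f (i - 1))
  obtain ⟨b, hb⟩ := (inferInstance : Projective (P.X (i + 1))).factors (h.hom (i + 1) i) (f i)
  refine ⟨a, b, fun x => mem_smul_top_of_tmul_eq_zero I _ ?_⟩
  have e : f i = (P.d i (i + 1) ≫ b + a ≫ P.d (i - 1) i) ≫ f i := by
    have hc := h.comm i
    rw [dNext_eq h.hom (show (ComplexShape.up ℤ).Rel i (i + 1) by simp),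
      prevD_eq h.hom (show (ComplexShape.up ℤ).Rel (i - 1) i by simp), hsi, add_zero] at hc
    have hq : P.d (i - 1) i ≫ f i = f (i - 1) ≫ Qc.d (i - 1) i := (q.comm (i - 1) i).symm
    rw [Preadditive.add_comp, Category.assoc, hb, Category.assoc, hq, ← Category.assoc a, ha]
    exact hc
  show (f i).hom (x - _) = 0
  rw [map_sub, sub_eq_zero]
  exact LinearMap.congr_fun (congrArg ModuleCat.Hom.hom e) x

theorem exactAt_tensorCx (P : DRing.Cx R) [P.IsKProjective] [∀ i, Projective (P.X i)]
    (hQ : ∀ i : ℤ, 0 < i → (DRing.tensorCx P (ModuleCat.of R (R ⧸ I))).ExactAt i)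
    (N : ModuleCat.{u} R) (n : ℕ) (hN : I ^ n • (⊤ : Submodule R N) = ⊥) (i : ℤ) (hi : 0 < i) :
    (DRing.tensorCx P N).ExactAt i := by
  obtain ⟨a, b, hab⟩ := exists_homotopy_step I P hQ i hi
  let E : P.X i →ₗ[R] P.X i := LinearMap.id - (P.d i (i + 1) ≫ b + a ≫ P.d (i - 1) i).hom
  have hE : ∀ x, E x ∈ I • (⊤ : Submodule R (P.X i)) := hab
  let T : (P.X i ⊗[R] N) →ₗ[R] (P.X i ⊗[R] N) := E.rTensor N
  have hT : ∀ z, T z ∈ I • (⊤ : Submodule R (P.X i ⊗[R] N)) := fun z => by
    induction z using TensorProduct.induction_on with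
    | zero => simp
    | tmul x y =>
      show E x ⊗ₜ[R] y ∈ _
      refine Submodule.smul_induction_on (hE x) (fun r hr m _ => ?_) (fun u v hu hv => by
        rw [TensorProduct.add_tmul]; exact add_mem hu hv)
      rw [← TensorProduct.smul_tmul']
      exact Submodule.smul_mem_smul hr Submodule.mem_top
    | add x y hx hy => rw [map_add]; exact add_mem hx hy
  have hTn : ∀ k z, (T ^ k) z ∈ I ^ k • (⊤ : Submodule R (P.X i ⊗[R] N)) := by
    intro k
    induction k with
    | zero => intro z; simp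
    | succ k ih =>
      intro z
      rw [show (T ^ (k + 1)) z = T ((T ^ k) z) by rw [pow_succ']; rfl]
      refine Submodule.smul_induction_on (ih z) (fun r hr m _ => ?_) (fun u v hu hv => by
        rw [map_add]; exact add_mem hu hv)
      rw [map_smul, pow_succ, Submodule.mul_smul]
      exact Submodule.smul_mem_smul hr (hT m)
  have hzero : ∀ z, (T ^ n) z = 0 := fun z => by
    refine Submodule.smul_induction_on (hTn n z) (fun r hr => ?_) (fun u v hu hv => by rw [hu, hv, add_zero])
    suffices ∀ m : P.X i ⊗[R] N, r • m = 0 from fun m _ => this m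
    intro m
    induction m using TensorProduct.induction_on with
    | zero => rw [smul_zero]
    | tmul x y =>
      rw [← TensorProduct.tmul_smul,
        (Submodule.mem_bot R).1 (hN.le (Submodule.smul_mem_smul hr (Submodule.mem_top (x := y)))),
        TensorProduct.tmul_zero]
    | add x y hx hy => rw [smul_add, hx, hy, add_zero]
  rw [HomologicalComplex.exactAt_iff' _ (i - 1) i (i + 1) (by simp) (by simp), ShortComplex.moduleCat_exact_iff]
  intro z hz
  change (P.X i) ⊗[R] N at z
  change ((P.d i (i + 1)).hom.rTensor N) z = 0 at hz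
  show ∃ y : (P.X (i - 1)) ⊗[R] N, ((P.d (i - 1) i).hom.rTensor N) y = z
  have key : ∀ k, ∃ y, ((P.d (i - 1) i).hom.rTensor N) y = z - (T ^ k) z ∧
      ((P.d i (i + 1)).hom.rTensor N) ((T ^ k) z) = 0 := by
    intro k
    induction k with
    | zero => exact ⟨0, by simp, by simpa using hz⟩
    | succ k ih =>
      obtain ⟨y, hy, hk⟩ := ih
      let w := (T ^ k) z
      have hw : (T ^ (k + 1)) z = w - ((P.d (i - 1) i).hom.rTensor N) (a.hom.rTensor N w) := by
        rw [pow_succ', Module.End.mul_apply]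
        show E.rTensor N w = _
        simp only [E, LinearMap.rTensor_sub, LinearMap.rTensor_id, LinearMap.sub_apply, LinearMap.id_apply,
          ModuleCat.hom_add, ModuleCat.hom_comp, LinearMap.rTensor_add, LinearMap.add_apply,
          LinearMap.rTensor_comp, LinearMap.comp_apply]
        rw [show ((P.d i (i + 1)).hom.rTensor N) w = 0 from hk, map_zero, zero_add]
      refine ⟨y + a.hom.rTensor N w, ?_, ?_⟩
      · rw [map_add, hy, hw]; simp only [w]; abel
      · rw [hw, map_sub, hk, ← LinearMap.comp_apply, ← LinearMap.rTensor_comp, ← ModuleCat.hom_comp, P.d_comp_d,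
          ModuleCat.hom_zero, LinearMap.rTensor_zero, LinearMap.zero_apply, sub_zero]
  obtain ⟨y, hy, -⟩ := key n
  exact ⟨y, by rw [hy, hzero, sub_zero]⟩

theorem subsingleton_HD_lTensor [DRing.HasLTensor R (ModuleCat.of R (R ⧸ I))] (K : Dual.D R)
    (hK : ∀ i : ℤ, 0 < i → Subsingleton (Dual.HD R ((DRing.LTensor R (ModuleCat.of R (R ⧸ I))).obj K) i))
    (N : ModuleCat.{u} R) (n : ℕ) (hN : I ^ n • (⊤ : Submodule R N) = ⊥) [DRing.HasLTensor R N]
    (i : ℤ) (hi : 0 < i) : Subsingleton (Dual.HD R ((DRing.LTensor R N).obj K) i) := by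
  obtain ⟨P, c, hP, hc, hp⟩ := exists_resolution (DerivedCategory.Q.objPreimage K)
  let eK : DRing.toD P ≅ K := asIso (DerivedCategory.Q.map c) ≪≫ DerivedCategory.Q.objObjPreimageIso K
  have tr : ∀ (M : ModuleCat.{u} R) [DRing.HasLTensor R M] (j : ℤ),
      Subsingleton (Dual.HD R ((DRing.LTensor R M).obj K) j) ↔ (DRing.tensorCx P M).ExactAt j := by
    intro M _ j
    obtain ⟨e⟩ := nonempty_lTensorIso M P
    rw [← subsingleton_HD_iff]
    exact ((((DerivedCategory.homologyFunctor _ j).mapIso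
      (((DRing.LTensor R M).mapIso eK).symm ≪≫ e))).toLinearEquiv).toEquiv.subsingleton_congr
  exact (tr N i).2 (exactAt_tensorCx I P (fun j hj => (tr _ j).1 (hK j hj)) N n hN i hi)

end Groth.Agent.LTenDev
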